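import Mathlib.RingTheory.Finiteness.Basic
import Mathlib.RingTheory.Ideal.Maps
import Mathlib.RingTheory.Localization.Ideal
import Mathlib.RingTheory.TensorProduct.Maps

/-!
# Fibres of closed sets descend to finitely generated subalgebras of the base
-/

set_option autoImplicit false
set_option linter.style.haveILetI false

universe u

open TensorProduct

namespace Groth.Agent.H13AlgSp.DvrVC

variable {R B C : Type u} [CommRing R] [CommRing B] [CommRing C] [Algebra R B] [Algebra R C]

theorem exists_fg_lift (x : B ⊗[R] C) : ∃ s : Finset C, ∀ t : Finset C, s ⊆ t →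
    ∃ y : B ⊗[R] (Algebra.adjoin R (t : Set C)),
      Algebra.TensorProduct.map (AlgHom.id R B) (Algebra.adjoin R (t : Set C)).val y = x := by
  classical
  induction x using TensorProduct.induction_on with
  | zero => exact ⟨∅, fun t _ => ⟨0, map_zero _⟩⟩
  | tmul b c => exact ⟨{c}, fun t ht => ⟨b ⊗ₜ ⟨c, Algebra.subset_adjoin (by simpa using ht)⟩, rfl⟩⟩
  | add x y hx hy =>
    obtain ⟨s₁, h₁⟩ := hx
    obtain ⟨s₂, h₂⟩ := hy
    refine ⟨s₁ ∪ s₂, fun t ht => ?_⟩
    obtain ⟨y₁, e₁⟩ := h₁ t (Finset.union_subset_left ht)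
    obtain ⟨y₂, e₂⟩ := h₂ t (Finset.union_subset_right ht)
    exact ⟨y₁ + y₂, by rw [map_add, e₁, e₂]⟩

/-- A closed set of `Spec (B ⊗ C)` missing the fibre over a prime of `C` is cut out, near that fibre, by an
equation defined over a finitely generated subalgebra of `C`. -/
theorem exists_fg_separating (J : Ideal (B ⊗[R] C)) (q : Ideal C) [q.IsPrime]
    (hq : ∀ P : Ideal (B ⊗[R] C), P.IsPrime → J ≤ P →
      P.comap (Algebra.TensorProduct.includeRight : C →ₐ[R] B ⊗[R] C) ≠ q) :
    ∃ (t : Finset C) (j : B ⊗[R] (Algebra.adjoin R (t : Set C))),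
      Algebra.TensorProduct.map (AlgHom.id R B) (Algebra.adjoin R (t : Set C)).val j ∈ J ∧
      ∀ P : Ideal (B ⊗[R] (Algebra.adjoin R (t : Set C))), P.IsPrime → j ∈ P →
        P.comap (Algebra.TensorProduct.includeRight :
          (Algebra.adjoin R (t : Set C)) →ₐ[R] B ⊗[R] (Algebra.adjoin R (t : Set C))) ≠
          q.comap (Algebra.adjoin R (t : Set C)).val := by
  classical
  let ι : C →ₐ[R] B ⊗[R] C := Algebra.TensorProduct.includeRight
  let I := J ⊔ q.map ι
  obtain ⟨z, hz, hzI⟩ : ∃ z ∈ q.primeCompl, ι z ∈ I := by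
    by_contra h
    push Not at h
    have hd : Disjoint (I : Set (B ⊗[R] C)) (q.primeCompl.map ι.toRingHom : Submonoid _) := by
      rw [Set.disjoint_right]
      rintro _ ⟨w, hw, rfl⟩
      exact h w hw
    obtain ⟨P, hP, hIP, hPd⟩ := Ideal.exists_le_prime_disjoint I _ hd
    refine hq P hP (le_sup_left.trans hIP) (le_antisymm (fun w hw => ?_) fun w hw => ?_)
    · by_contra hwq
      exact Set.disjoint_right.1 hPd ⟨w, hwq, rfl⟩ hw
    · exact hIP (Ideal.mem_sup_right (Ideal.mem_map_of_mem ι hw))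
  obtain ⟨j₀, hj₀, k₀, hk₀, hjk⟩ := Submodule.mem_sup.1 hzI
  obtain ⟨m, a, g, rfl⟩ := Submodule.mem_span_set'.1 (show k₀ ∈ Submodule.span (B ⊗[R] C) (ι '' (q : Set C)) from hk₀)
  choose c hc hcg using fun i => (g i).2
  choose s hs using fun i => exists_fg_lift (a i)
  let t : Finset C := insert z (Finset.univ.image c ∪ Finset.univ.biUnion s)
  have hst : ∀ i, s i ⊆ t := fun i => (Finset.subset_biUnion_of_mem s (Finset.mem_univ i)).trans
    (Finset.subset_union_right.trans (Finset.subset_insert _ _))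
  choose a' ha' using fun i => hs i t (hst i)
  let z' : Algebra.adjoin R (t : Set C) := ⟨z, Algebra.subset_adjoin (Finset.mem_insert_self _ _)⟩
  let c' : Fin m → Algebra.adjoin R (t : Set C) := fun i => ⟨c i, Algebra.subset_adjoin (Finset.mem_insert_of_mem
    (Finset.mem_union_left _ (Finset.mem_image_of_mem _ (Finset.mem_univ i))))⟩
  refine ⟨t, Algebra.TensorProduct.includeRight z' - ∑ i, a' i * Algebra.TensorProduct.includeRight (c' i), ?_, ?_⟩
  · rw [map_sub, map_sum]
    simp only [map_mul, ha', Algebra.TensorProduct.includeRight_apply, Algebra.TensorProduct.map_tmul, map_one,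
      Subalgebra.coe_val]
    change ι z - ∑ i, a i * ι (c i) ∈ J
    rw [← hjk]
    simp only [smul_eq_mul, ← hcg, add_sub_cancel_right]
    exact hj₀
  · intro P hP hj he
    have hsum : (∑ i, a' i * Algebra.TensorProduct.includeRight (c' i)) ∈ P := P.sum_mem fun i _ =>
      P.mul_mem_left _ (he.ge (show c' i ∈ q.comap _ from hc i))
    have := P.add_mem hj hsum
    rw [sub_add_cancel] at this
    exact hz (he.le (show z' ∈ P.comap _ from this))

end Groth.Agent.H13AlgSp.DvrVC
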