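import Groth.Agent.H12AlgSp.ValuativeClosed
import Groth.Agent.H11Val.Dominating
import Mathlib.AlgebraicGeometry.Morphisms.FiniteType
import Mathlib.AlgebraicGeometry.Noetherian

/-!
# Discrete valuation rings witnessing specializations
-/

set_option autoImplicit false
set_option linter.style.haveILetI false
set_option backward.isDefEq.respectTransparency false

universe u

open CategoryTheory CategoryTheory.Limits AlgebraicGeometry Opposite Topology IsLocalRing

namespace Groth.Agent.H13AlgSp.DvrVC

theorem exists_dvr_of_specializes {U T : Scheme.{u}} [IsAffine U] [IsAffine T] [IsLocallyNoetherian T]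
    (h : U ⟶ T) [LocallyOfFiniteType h] (u : ↥U) {z : ↥T} (hs : h u ⤳ z) (hne : h u ≠ z) :
    ∃ (A : ValuationSubring (U.residueField u)) (b : Spec (CommRingCat.of A) ⟶ T),
      IsDiscreteValuationRing A ∧ b (closedPoint A) = z ∧
      Spec.map (CommRingCat.ofHom (algebraMap A (U.residueField u))) ≫ b =
        U.fromSpecResidueField u ≫ h := by
  classical
  let σ : T.presheaf.stalk z ⟶ U.residueField u :=
    T.presheaf.stalkSpecializes hs ≫ h.stalkMap u ≫ U.residue u
  have hσ : Spec.map σ ≫ T.fromSpecStalk z = U.fromSpecResidueField u ≫ h := by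
    rw [Scheme.fromSpecResidueField, Category.assoc, ← Scheme.SpecMap_stalkMap_fromSpecStalk,
      ← Scheme.SpecMap_stalkSpecializes_fromSpecStalk hs]
    simp_rw [← Spec.map_comp_assoc]
    rfl
  let R0 := σ.hom.range
  haveI : IsNoetherianRing R0 :=
    isNoetherianRing_of_surjective _ _ σ.hom.rangeRestrict σ.hom.rangeRestrict_surjective
  haveI : IsLocalRing R0 := IsLocalRing.of_surjective' σ.hom.rangeRestrict σ.hom.rangeRestrict_surjective
  haveI : IsLocalHom σ.hom.rangeRestrict := IsLocalHom.of_surjective _ σ.hom.rangeRestrict_surjective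
  let P : Ideal R0 := maximalIdeal R0
  have hP : P ≠ ⊥ := by
    intro hbot
    refine hne ?_
    have hmem : ∀ x ∈ maximalIdeal (T.presheaf.stalk z), σ.hom x = 0 := fun x hx => by
      have hxP : σ.hom.rangeRestrict x ∈ P := map_nonunit σ.hom.rangeRestrict x hx
      rw [hbot, Ideal.mem_bot] at hxP
      exact congrArg Subtype.val hxP
    have h1 : Spec.map σ (closedPoint (U.residueField u)) = closedPoint (T.presheaf.stalk z) := by
      refine PrimeSpectrum.ext (((maximalIdeal.isMaximal _).eq_of_le (Ideal.IsPrime.ne_top inferInstance) ?_).symm)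
      intro x hx
      show σ.hom x ∈ maximalIdeal _
      rw [hmem x hx]
      exact zero_mem _
    have h2 := congrArg (fun m : Spec (U.residueField u) ⟶ T => m (closedPoint (U.residueField u))) hσ
    simp only [Scheme.Hom.comp_apply, h1, Scheme.fromSpecStalk_closedPoint] at h2
    rw [h2]
    exact congrArg h (Scheme.fromSpecResidueField_apply u _).symm
  -- generation of the residue field
  let ev : Γ(U, ⊤) ⟶ U.residueField u := U.presheaf.germ ⊤ u trivial ≫ U.residue u
  have hfin : h.appTop.hom.FiniteType := (HasRingHomProperty.iff_of_isAffine (P := @LocallyOfFiniteType)).1 ‹_›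
  letI := h.appTop.hom.toAlgebra
  obtain ⟨gens, hgens⟩ := hfin.out
  let W := Subfield.closure (Set.range (algebraMap R0 (U.residueField u)) ∪ ((gens.image ev.hom : Finset _) : Set _))
  have hW : W = ⊤ := by
    have hΓ : ∀ g : Γ(U, ⊤), ev.hom g ∈ W := fun g => by
      have hg : g ∈ Algebra.adjoin Γ(T, ⊤) (gens : Set Γ(U, ⊤)) := hgens ▸ Algebra.mem_top
      induction hg using Algebra.adjoin_induction with
      | mem x hx => exact Subfield.subset_closure (Or.inr (Finset.mem_coe.2 (Finset.mem_image_of_mem _ hx)))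
      | algebraMap r =>
        refine Subfield.subset_closure (Or.inl ⟨σ.hom.rangeRestrict ((T.presheaf.germ ⊤ z trivial).hom r), ?_⟩)
        show σ.hom ((T.presheaf.germ ⊤ z trivial).hom r) = ev.hom (h.appTop.hom r)
        simp only [σ, ev, CommRingCat.comp_apply, TopCat.Presheaf.germ_stalkSpecializes_apply,
          Scheme.Hom.germ_stalkMap_apply]
        rfl
      | add x y _ _ hx hy => rw [map_add]; exact add_mem hx hy
      | mul x y _ _ hx hy => rw [map_mul]; exact mul_mem hx hy
    rw [eq_top_iff]
    intro x _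
    obtain ⟨y, rfl⟩ := IsLocalRing.residue_surjective x
    letI : Algebra Γ(U, ⊤) (U.presheaf.stalk u) := (U.presheaf.germ ⊤ u trivial).hom.toAlgebra
    haveI : IsLocalization.AtPrime (U.presheaf.stalk u) ((isAffineOpen_top U).primeIdealOf ⟨u, trivial⟩).asIdeal :=
      (isAffineOpen_top U).isLocalization_stalk ⟨u, trivial⟩
    obtain ⟨a, s, rfl⟩ :=
      IsLocalization.exists_mk'_eq ((isAffineOpen_top U).primeIdealOf ⟨u, trivial⟩).asIdeal.primeCompl y
    have hu : IsUnit (U.residue u (algebraMap Γ(U, ⊤) (U.presheaf.stalk u) s)) :=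
      (IsLocalization.map_units (U.presheaf.stalk u) s).map (U.residue u).hom
    have e := congrArg (U.residue u).hom (IsLocalization.mk'_spec (U.presheaf.stalk u) a s)
    rw [map_mul] at e
    have e' : IsLocalRing.residue _ (IsLocalization.mk' (U.presheaf.stalk u) a s) =
        ev.hom a / ev.hom s := by
      rw [eq_div_iff (by exact hu.ne_zero)]
      exact e
    rw [e']
    exact div_mem (hΓ a) (hΓ s)
  obtain ⟨A, hA, hAc⟩ := H11Val.exists_dvr_center (A := R0) (U.residueField u) Subtype.val_injective
    (gens.image ev.hom) hW P hP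
  let σA : T.presheaf.stalk z ⟶ CommRingCat.of A :=
    CommRingCat.ofHom (σ.hom.codRestrict A.toSubring fun x => (hAc ⟨σ.hom x, x, rfl⟩).1)
  refine ⟨A, Spec.map σA ≫ T.fromSpecStalk z, hA, ?_, ?_⟩
  · rw [Scheme.Hom.comp_apply]
    haveI : IsLocalHom σA.hom := ⟨fun x hx => by
      by_contra hnu
      have hxP : σ.hom.rangeRestrict x ∈ P := map_nonunit σ.hom.rangeRestrict x hnu
      have hv := (hAc _).2.1 hxP
      exact (A.valuation_lt_one_iff ⟨_, (hAc ⟨σ.hom x, x, rfl⟩).1⟩).2 hv hx⟩
    have : Spec.map σA (closedPoint A) = closedPoint (T.presheaf.stalk z) := comap_closedPoint (S := A) σA.hom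
    rw [this]; exact T.fromSpecStalk_closedPoint
  · rw [← hσ, ← Spec.map_comp_assoc]
    rfl

end Groth.Agent.H13AlgSp.DvrVC
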