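import Groth.Agent.H12AlgSp.NoethValuative
import Groth.Agent.H13AlgSp.DvrVC.Limit
import Groth.Agent.H13AlgSp.DvrVC.Witness

/-!
# Universal closedness from lifting over discrete valuation rings
-/

set_option autoImplicit false
set_option linter.style.haveILetI false
set_option backward.isDefEq.respectTransparency false

universe u

open CategoryTheory CategoryTheory.Limits AlgebraicGeometry Opposite Topology IsLocalRing TensorProduct
open AlgSp Groth.Agent.H12AlgSp

namespace Groth.Agent.H13AlgSp.DvrVC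

variable {S : Scheme.{u}} {X Y : Sp S}

/-- Squares over discrete valuation rings have lifts after extension. -/
def DvrExt (f : X ⟶ Y) : Prop := ∀ sq : ValSq f, IsDiscreteValuationRing sq.A → sq.HasLiftExt

theorem dvrExt_of_isPullback {X' Z : Sp S} {f : X ⟶ Y} {g : Z ⟶ Y} {fst : X' ⟶ X} {f' : X' ⟶ Z}
    (sq : IsPullback fst f' f g) (h : DvrExt f) : DvrExt f' := by
  intro v hv
  obtain ⟨e₀, l, hl₁, hl₂⟩ := h
    { A := v.A, K := v.K, str := v.str, top := v.top ≫ fst, bot := v.bot ≫ g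
      comm := by rw [Category.assoc, sq.w, ← Category.assoc, v.comm, Category.assoc] } hv
  let e : v.DomExt :=
    { A' := e₀.A', K' := e₀.K', φ := e₀.φ, ψ := e₀.ψ, comm := e₀.comm, isLocalHom := e₀.isLocalHom }
  obtain ⟨l', h₁, h₂⟩ := sq.exists_lift l ((yon S).map (phiHom e) ≫ v.bot)
    (hl₂.trans (Category.assoc _ _ _).symm)
  refine ⟨e, (hasLift_iff e).2 ⟨l', sq.hom_ext ?_ ?_, h₂⟩⟩
  · rw [Category.assoc, Category.assoc, h₁]
    exact hl₁
  · rw [Category.assoc, Category.assoc, h₂]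
    exact bot_comm e

theorem exists_lift_of_valuation {T U : Over S} {f : X ⟶ (yon S).obj T} {a : (yon S).obj U ⟶ X}
    {h : U ⟶ T} (w : a ≫ f = (yon S).map h) (u : ↥U.left) {z : ↥T.left}
    (A : ValuationSubring (U.left.residueField u)) (hA' : IsDiscreteValuationRing A)
    (b : Spec (CommRingCat.of A) ⟶ T.left) (hb : b (closedPoint A) = z)
    (hbw : Spec.map (CommRingCat.ofHom (algebraMap A (U.left.residueField u))) ≫ b =
      U.left.fromSpecResidueField u ≫ h.left) (hd : DvrExt f) :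
    ∃ x, Points.ofPt a u ⤳ x ∧ Points.map f x = Points.ofScheme T z := by
  have hA : Spec.map (CommRingCat.ofHom (algebraMap A (U.left.residueField u))) ≫ b ≫ T.hom =
      U.left.fromSpecResidueField u ≫ U.hom := by
    rw [← Category.assoc, hbw, Category.assoc, Over.w]
  let k : Over.mk (Spec.map (CommRingCat.ofHom (algebraMap A (U.left.residueField u))) ≫ b ≫ T.hom) ⟶ U :=
    Over.homMk (U.left.fromSpecResidueField u) hA.symm
  let b' : Over.mk (b ≫ T.hom) ⟶ T := Over.homMk b
  have hc : ((yon S).map k ≫ a) ≫ f = (yon S).map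
      (Over.homMk (Spec.map (CommRingCat.ofHom (algebraMap A (U.left.residueField u)))) rfl :
        Over.mk (Spec.map (CommRingCat.ofHom (algebraMap A (U.left.residueField u))) ≫ b ≫ T.hom) ⟶
          Over.mk (b ≫ T.hom)) ≫ (yon S).map b' := by
    rw [Category.assoc, w, ← Functor.map_comp, ← Functor.map_comp]
    exact congrArg _ (Over.OverMorphism.ext hbw.symm)
  let v : ValSq f :=
    { A := A, K := U.left.residueField u, str := b ≫ T.hom, top := (yon S).map k ≫ a
      bot := (yon S).map b', comm := hc }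
  obtain ⟨e, hl⟩ := hd v hA'
  obtain ⟨l, hl₁, hl₂⟩ := (hasLift_iff e).1 hl
  let c : ↥e.ptA'.left := closedPoint e.A'
  refine ⟨Points.ofPt l c, ?_, ?_⟩
  · let η : ↥e.ptK'.left := (default : ↥(Spec (CommRingCat.of e.K')))
    have h1 : (jHom e).left η ⤳ c := specializes_closedPoint _
    have h2 : Points.ofPt a u = Points.ofPt l ((jHom e).left η) := by
      rw [← ofPt_map, hl₁]
      change _ = Points.ofPt ((yon S).map (psiHom e) ≫ (yon S).map k ≫ a) η
      rw [ofPt_map, ofPt_map]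
      exact congrArg _ (Scheme.fromSpecResidueField_apply u _).symm
    rw [h2]
    exact h1.map (Points.continuous_ofPt l)
  · rw [Points.map_ofPt, hl₂, ofPt_map]
    change Points.ofPt ((yon S).map b') _ = _
    rw [← Category.comp_id ((yon S).map b'), ofPt_map]
    have := e.isLocalHom
    have hc' : (phiHom e).left c = closedPoint v.A := comap_closedPoint (S := e.A') e.φ
    rw [hc']
    change Points.ofPt _ (b (closedPoint A)) = _
    rw [hb]

/-- Specializations lift along a morphism of finite type to an affine Noetherian scheme. -/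
theorem exists_specialization_lift_dvr {T U : Over S} [IsAffine T.left] [IsAffine U.left]
    [IsLocallyNoetherian T.left] {f : X ⟶ (yon S).obj T} {a : (yon S).obj U ⟶ X}
    {h : U ⟶ T} [LocallyOfFiniteType h.left] (w : a ≫ f = (yon S).map h) (u : ↥U.left) {z : ↥T.left}
    (hs : h.left u ⤳ z) (hd : DvrExt f) :
    ∃ x, Points.ofPt a u ⤳ x ∧ Points.map f x = Points.ofScheme T z := by
  by_cases hne : h.left u = z
  · refine ⟨Points.ofPt a u, specializes_rfl, ?_⟩
    rw [Points.map_ofPt, w, ← Category.comp_id ((yon S).map h), ofPt_map, hne]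
  · obtain ⟨A, b, hA, hb, hbw⟩ := exists_dvr_of_specializes h.left u hs hne
    exact exists_lift_of_valuation w u A hA b hb hbw hd

/-- The spectrum of a tensor product as a fibre product of affine schemes. -/
theorem isPullback_tensor {T₀ V T : Over S} [IsAffine T₀.left] [IsAffine V.left] (k : V ⟶ T₀) (c : T ⟶ T₀)
    (C : Type u) [CommRing C] [Algebra Γ(T₀.left, ⊤) C] [Algebra Γ(T₀.left, ⊤) Γ(V.left, ⊤)]
    (hk : algebraMap Γ(T₀.left, ⊤) Γ(V.left, ⊤) = k.left.appTop.hom) (e : T.left ≅ Spec (CommRingCat.of C))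
    (hc : c.left = e.hom ≫ Spec.map (CommRingCat.ofHom (algebraMap Γ(T₀.left, ⊤) C)) ≫ T₀.left.isoSpec.inv) :
    IsPullback
      (Spec.map (CommRingCat.ofHom (Algebra.TensorProduct.includeLeftRingHom :
        Γ(V.left, ⊤) →+* Γ(V.left, ⊤) ⊗[Γ(T₀.left, ⊤)] C)) ≫ V.left.isoSpec.inv)
      (Spec.map (CommRingCat.ofHom (Algebra.TensorProduct.includeRight :
        C →ₐ[Γ(T₀.left, ⊤)] Γ(V.left, ⊤) ⊗[Γ(T₀.left, ⊤)] C).toRingHom) ≫ e.inv) k.left c.left := by
  have sq := isPullback_SpecMap_of_isPushout _ _ _ _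
    (CommRingCat.isPushout_tensorProduct Γ(T₀.left, ⊤) Γ(V.left, ⊤) C)
  refine sq.of_iso (Iso.refl _) V.left.isoSpec.symm e.symm T₀.left.isoSpec.symm (by simp) (by simp) ?_ ?_
  · rw [Iso.symm_hom, Iso.symm_hom, hk]
    exact (Scheme.isoSpec_inv_naturality k.left)
  · rw [Iso.symm_hom, Iso.symm_hom, hc, Iso.inv_hom_id_assoc]

/-- The core: specializations lift in base changes to affine schemes over an affine Noetherian chart. -/
theorem mem_image_of_specializes {T₀ V T : Over S} [IsAffine T₀.left] [IsLocallyNoetherian T₀.left] [IsAffine V.left]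
    [IsAffine T.left] (hX : IsAlgSpace X) {f : X ⟶ (yon S).obj T₀} {av : (yon S).obj V ⟶ X}
    (hav : RepWith @Etale av) (havs : RepWith @Surjective av) {k : V ⟶ T₀} [LocallyOfFiniteType k.left]
    (hk : av ≫ f = (yon S).map k) (hd : DvrExt f) (c : T ⟶ T₀) {P : Sp S} {fst : P ⟶ X}
    {snd : P ⟶ (yon S).obj T} (sq : IsPullback fst snd f ((yon S).map c)) {W : Set (Points P)} (hW : IsClosed W)
    {x : Points P} (hx : x ∈ W) {p q : ↥T.left} (hxp : Points.map snd x = Points.ofScheme T p) (hpq : p ⤳ q) :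
    Points.ofScheme T q ∈ Points.map snd '' W := by
  classical
  letI algB : Algebra Γ(T₀.left, ⊤) Γ(V.left, ⊤) := k.left.appTop.hom.toAlgebra
  letI algC : Algebra Γ(T₀.left, ⊤) Γ(T.left, ⊤) := c.left.appTop.hom.toAlgebra
  let R := Γ(T₀.left, ⊤)
  let B := Γ(V.left, ⊤)
  let C := Γ(T.left, ⊤)
  have hTeq : c.left = T.left.isoSpec.hom ≫ Spec.map (CommRingCat.ofHom (algebraMap R C)) ≫ T₀.left.isoSpec.inv := by
    have h1 : T.left.isoSpec.hom ≫ Spec.map c.left.appTop = c.left ≫ T₀.left.isoSpec.hom :=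
      Scheme.isoSpec_hom_naturality c.left
    rw [show CommRingCat.ofHom (algebraMap R C) = c.left.appTop from rfl, ← Category.assoc, h1, Category.assoc,
      Iso.hom_inv_id, Category.comp_id]
  have sqU := isPullback_tensor k c C rfl T.left.isoSpec hTeq
  let pV₀ := Spec.map (CommRingCat.ofHom (Algebra.TensorProduct.includeLeftRingHom : B →+* B ⊗[R] C)) ≫
    V.left.isoSpec.inv
  let pT₀ := Spec.map (CommRingCat.ofHom (Algebra.TensorProduct.includeRight : C →ₐ[R] B ⊗[R] C).toRingHom) ≫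
    T.left.isoSpec.inv
  let U : Over S := Over.mk (pV₀ ≫ V.hom)
  let pV : U ⟶ V := Over.homMk pV₀
  let pT : U ⟶ T := Over.homMk pT₀ (by
    show pT₀ ≫ T.hom = pV₀ ≫ V.hom
    rw [← Over.w c, ← Over.w k, ← Category.assoc, ← sqU.w, Category.assoc])
  have sqU' : IsPullback pV pT k c := IsPullback.of_map (Over.forget S) (Over.OverMorphism.ext sqU.w) sqU
  obtain ⟨a, ha₁, ha₂⟩ := sq.exists_lift ((yon S).map pV ≫ av) ((yon S).map pT) (by
    rw [Category.assoc, hk, ← Functor.map_comp, ← Functor.map_comp, sqU'.w])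
  have sqa : IsPullback ((yon S).map pV) a av fst := by
    refine IsPullback.of_bot (v₁₁ := a) (v₁₂ := av) (v₂₁ := snd) (v₂₂ := f) ?_ ha₁.symm sq
    rw [ha₂, hk]
    exact sqU'.map (yon S)
  have has : Function.Surjective (Points.ofPt a) :=
    surjective_ofPt_of_repWith le_rfl (repWith_of_isPullback sqa havs)
  have hsnd : ∀ w : ↥U.left, Points.map snd (Points.ofPt a w) = Points.ofScheme T (pT.left w) := fun w => by
    rw [Points.map_ofPt, ha₂, ← Category.comp_id ((yon S).map pT), ofPt_map]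
  by_contra hcon
  let Z : Set ↥U.left := Points.ofPt a ⁻¹' W
  have hZ : IsClosed Z := hW.preimage (Points.continuous_ofPt a)
  obtain ⟨J, hJ⟩ := (PrimeSpectrum.isClosed_iff_zeroLocus_ideal (R := B ⊗[R] C) Z).1 hZ
  let qC : Ideal C := (T.left.isoSpec.hom q).asIdeal
  obtain ⟨t, j, hjJ, hjq⟩ := exists_fg_separating J qC (fun Q hQ hJQ he => by
    refine hcon ⟨Points.ofPt a (⟨Q, hQ⟩ : PrimeSpectrum (B ⊗[R] C)), ?_, ?_⟩
    · show (⟨Q, hQ⟩ : PrimeSpectrum (B ⊗[R] C)) ∈ Z
      rw [hJ]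
      exact hJQ
    · rw [hsnd]
      congr 1
      have h1 : Spec.map (CommRingCat.ofHom (Algebra.TensorProduct.includeRight : C →ₐ[R] B ⊗[R] C).toRingHom)
          (⟨Q, hQ⟩ : PrimeSpectrum (B ⊗[R] C)) = T.left.isoSpec.hom q := PrimeSpectrum.ext he
      exact (congrArg (fun w => T.left.isoSpec.inv w) h1).trans
        (congrArg (fun m : T.left ⟶ T.left => m q) T.left.isoSpec.hom_inv_id))
  -- the finitely generated stage
  let C' := Algebra.adjoin R (t : Set C)
  let c₀ := Spec.map (CommRingCat.ofHom (algebraMap R C')) ≫ T₀.left.isoSpec.inv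
  let T' : Over S := Over.mk (c₀ ≫ T₀.hom)
  let c' : T' ⟶ T₀ := Over.homMk c₀
  have hRN : IsNoetherianRing R := IsLocallyNoetherian.component_noetherian ⟨⊤, isAffineOpen_top _⟩
  haveI : IsNoetherianRing C' := isNoetherianRing_of_fg ⟨_, rfl⟩
  haveI : IsAffine T'.left := inferInstanceAs (IsAffine (Spec (CommRingCat.of C')))
  haveI : IsLocallyNoetherian T'.left := inferInstanceAs (IsLocallyNoetherian (Spec (CommRingCat.of C')))
  have sqV' := isPullback_tensor k c' C' rfl (Iso.refl _) (Category.id_comp _).symm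
  let pV₀' := Spec.map (CommRingCat.ofHom (Algebra.TensorProduct.includeLeftRingHom : B →+* B ⊗[R] C')) ≫
    V.left.isoSpec.inv
  let pT₀' := Spec.map (CommRingCat.ofHom (Algebra.TensorProduct.includeRight : C' →ₐ[R] B ⊗[R] C').toRingHom) ≫
    (Iso.refl T'.left).inv
  let U' : Over S := Over.mk (pV₀' ≫ V.hom)
  let pV' : U' ⟶ V := Over.homMk pV₀'
  let pT' : U' ⟶ T' := Over.homMk pT₀' (by
    show pT₀' ≫ T'.hom = pV₀' ≫ V.hom
    have h := congrArg (· ≫ T₀.hom) sqV'.w.symm
    simp only [Category.assoc, Over.w] at h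
    exact h)
  haveI : IsAffine U'.left := inferInstanceAs (IsAffine (Spec (CommRingCat.of (B ⊗[R] C'))))
  have sqU'' : IsPullback pV' pT' k c' := IsPullback.of_map (Over.forget S) (Over.OverMorphism.ext sqV'.w) sqV'
  haveI : LocallyOfFiniteType pT'.left :=
    MorphismProperty.of_isPullback (P := @LocallyOfFiniteType) sqV' ‹LocallyOfFiniteType k.left›
  let m : B ⊗[R] C' →ₐ[R] B ⊗[R] C := Algebra.TensorProduct.map (AlgHom.id R B) C'.val
  let π₀ := Spec.map (CommRingCat.ofHom m.toRingHom)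
  let d : T ⟶ T' := Over.homMk (T.left.isoSpec.hom ≫ Spec.map (CommRingCat.ofHom C'.val.toRingHom)) (by
    show _ ≫ c₀ ≫ T₀.hom = T.hom
    rw [← Over.w c, hTeq]
    simp only [c₀, Category.assoc, ← Spec.map_comp_assoc]
    rfl)
  have hdc : d ≫ c' = c := Over.OverMorphism.ext (by
    show (T.left.isoSpec.hom ≫ Spec.map _) ≫ c₀ = c.left
    rw [hTeq]
    simp only [c₀, Category.assoc, ← Spec.map_comp_assoc]
    rfl)
  let π : U ⟶ U' := Over.homMk π₀ (by
    show π₀ ≫ pV₀' ≫ V.hom = pV₀ ≫ V.hom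
    simp only [π₀, pV₀', pV₀, Category.assoc, ← Spec.map_comp_assoc]
    congr 2)
  have hπV : π ≫ pV' = pV := Over.OverMorphism.ext (by
    show π₀ ≫ pV₀' = pV₀
    simp only [π₀, pV₀', pV₀, ← Spec.map_comp_assoc]
    congr 2)
  have hπT : π ≫ pT' = pT ≫ d := Over.OverMorphism.ext (by
    show π₀ ≫ (Spec.map _ ≫ 𝟙 (Spec (CommRingCat.of C'))) =
      pT₀ ≫ T.left.isoSpec.hom ≫ Spec.map (CommRingCat.ofHom C'.val.toRingHom)
    simp only [π₀, pT₀, Category.comp_id, Category.assoc, Iso.inv_hom_id_assoc, ← Spec.map_comp]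
    congr 1)
  obtain ⟨P', fst', snd', sq'⟩ : ∃ (P' : Sp S) (fst' : P' ⟶ X) (snd' : P' ⟶ (yon S).obj T'),
      IsPullback fst' snd' f ((yon S).map c') := ⟨_, _, _, IsPullback.of_hasPullback _ _⟩
  have hP' : IsAlgSpace P' := isAlgSpace_of_isPullback (IsAlgSpace.yon_obj T₀).diag hX (IsAlgSpace.yon_obj T') sq'
  obtain ⟨φ, hφ₁, hφ₂⟩ := sq'.exists_lift fst (snd ≫ (yon S).map d) (by
    rw [Category.assoc, ← Functor.map_comp, hdc, sq.w])
  obtain ⟨a', ha₁', ha₂'⟩ := sq'.exists_lift ((yon S).map pV' ≫ av) ((yon S).map pT') (by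
    rw [Category.assoc, hk, ← Functor.map_comp, ← Functor.map_comp, sqU''.w])
  have sqa' : IsPullback ((yon S).map pV') a' av fst' := by
    refine IsPullback.of_bot (v₁₁ := a') (v₁₂ := av) (v₂₁ := snd') (v₂₂ := f) ?_ ha₁'.symm sq'
    rw [ha₂', hk]
    exact sqU''.map (yon S)
  have hsnd' : ∀ w : ↥U'.left, Points.map snd' (Points.ofPt a' w) = Points.ofScheme T' (pT'.left w) := fun w => by
    rw [Points.map_ofPt, ha₂', ← Category.comp_id ((yon S).map pT'), ofPt_map]
  have sqπ : IsPullback ((yon S).map π) a a' φ := by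
    refine IsPullback.of_right ?_ (sq'.hom_ext ?_ ?_) sqa'
    · rw [← Functor.map_comp, hπV, hφ₁]
      exact sqa
    · rw [Category.assoc, ha₁', Category.assoc, hφ₁, ha₁, ← Category.assoc, ← Functor.map_comp, hπV]
    · rw [Category.assoc, ha₂', Category.assoc, hφ₂, reassoc_of% ha₂, ← Functor.map_comp, ← Functor.map_comp, hπT]
  have hopen : IsOpenMap (Points.ofPt a') :=
    isOpenMap_ofPt_of_repWith etale_le_universallyOpen (repWith_of_isPullback sqa' hav)
  have hj : Points.ofPt a' ⁻¹' (closure (Points.map φ '' W)) ⊆ PrimeSpectrum.zeroLocus ({j} : Set (B ⊗[R] C')) := by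
    rw [hopen.preimage_closure_eq_closure_preimage (Points.continuous_ofPt a')]
    refine closure_minimal ?_ (PrimeSpectrum.isClosed_zeroLocus _)
    rintro u' ⟨y, hy, hyu⟩
    obtain ⟨w, hw₁, hw₂⟩ := exists_point_of_isPullback sqπ (Points.schemeHomeo U' u') y
      (by
        rw [hyu]
        exact (Points.map_ofPt _ _ _).trans (by rw [Category.id_comp]))
    obtain ⟨w, rfl⟩ := (Points.schemeHomeo U).surjective w
    have hwπ : π.left w = u' := (Points.schemeHomeo U').injective (by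
      rw [← hw₁]
      exact (Points.map_yon_map_apply π w).symm)
    have hwy : Points.ofPt a w = y := by
      rw [← hw₂]
      exact ((Points.map_ofPt _ _ _).trans (by rw [Category.id_comp])).symm
    rw [PrimeSpectrum.mem_zeroLocus, Set.singleton_subset_iff, SetLike.mem_coe, ← hwπ]
    show m j ∈ PrimeSpectrum.asIdeal (R := B ⊗[R] C) w
    have hwZ : w ∈ Z := show Points.ofPt a w ∈ W from hwy ▸ hy
    rw [hJ] at hwZ
    exact hwZ hjJ
  -- lift the specialization
  obtain ⟨u, rfl⟩ := has x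
  have hp : pT.left u = p := (Points.schemeHomeo T).injective ((hsnd u).symm.trans hxp)
  let u' := π.left u
  have hu' : Points.ofPt a' u' = Points.map φ (Points.ofPt a u) := by
    rw [Points.map_ofPt, ← sqπ.w, ofPt_map]
  have hs : pT'.left u' ⤳ d.left q := by
    have : pT'.left u' = d.left p := by
      rw [← hp, ← Scheme.Hom.comp_apply, ← Scheme.Hom.comp_apply, ← Over.comp_left, ← Over.comp_left, hπT]
    rw [this]
    exact hpq.map d.left.continuous
  obtain ⟨y, hy₁, hy₂⟩ := exists_specialization_lift_dvr ha₂' u' hs (dvrExt_of_isPullback sq' hd)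
  have hyW : y ∈ closure (Points.map φ '' W) :=
    hy₁.mem_closed isClosed_closure (subset_closure ⟨_, hx, hu'.symm⟩)
  obtain ⟨w, rfl⟩ := surjective_ofPt_of_repWith le_rfl (repWith_of_isPullback sqa' havs) y
  have hw : pT'.left w = d.left q := (Points.schemeHomeo T').injective ((hsnd' w).symm.trans hy₂)
  refine hjq (PrimeSpectrum.asIdeal (R := B ⊗[R] C') w) (PrimeSpectrum.isPrime (R := B ⊗[R] C') w)
    (hj hyW rfl) ?_
  exact congrArg (fun r => PrimeSpectrum.asIdeal (R := C') r) hw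

/-- Lifting over discrete valuation rings implies universal closedness. -/
theorem isUnivClosedMor_of_dvrExt (hX : IsAlgSpace X) (hY : IsAlgSpace Y) (hYn : IsLocNoethSp Y) {f : X ⟶ Y}
    (hft : IsFiniteTypeMor f) (hd : DvrExt f) : IsUnivClosedMor f := by
  refine (isUnivClosedMor_iff_affine f).2 fun T hT g P fst snd sq => ?_
  have hT' := IsAlgSpace.yon_obj (S := S) T
  have hP := isAlgSpace_of_isPullback hY.diag hX hT' sq
  have := compactSpace_points_of_isQuasiCompactSp
    (hft.2 hT' (isQuasiCompactSp_yon_iff.2 inferInstance) g fst snd sq)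
  obtain ⟨U, a, hU, ha, has⟩ := exists_affine_atlas hP
  obtain ⟨h, hh⟩ := (yon S).map_surjective (a ≫ snd)
  intro W hW
  have e : Points.map snd '' W = Points.schemeHomeo T '' (h.left '' (Points.ofPt a ⁻¹' W)) := by
    conv_lhs => rw [← Set.image_preimage_eq W (surjective_ofPt_of_repWith le_rfl has)]
    rw [Set.image_image, Set.image_image]
    refine Set.image_congr' fun u => ?_
    rw [Points.map_ofPt, ← hh, ← Category.comp_id ((yon S).map h), ofPt_map]
    rfl
  rw [e]
  refine (Points.schemeHomeo T).isClosedMap _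
    (isClosed_image_of_affine h.left (hW.preimage (Points.continuous_ofPt a)) ?_)
  rintro _ z hs ⟨u, hu, rfl⟩
  -- an affine Noetherian chart through the image of `z`
  obtain ⟨ι₀, T₀, b₀, hT₀, hbe₀, -, hbc⟩ := exists_affine_family hY
  obtain ⟨i, hi⟩ := hbc (Points.ofPt g z)
  have := hT₀ i
  haveI hTn : IsLocallyNoetherian (T₀ i).left := Groth.Agent.H13AlgSp.etaleLocally_chart
    (fun g hg hB => @Groth.Agent.H13AlgSp.isLocallyNoetherian_of_etale _ _ g hg hB)
    (fun g hg hs hA => @Groth.Agent.H13AlgSp.isLocallyNoetherian_of_flat_lfp_surjective _ _ g inferInstance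
      inferInstance hs hA) hY hYn (hbe₀ i)
  obtain ⟨Q, dT, dB', sqQ⟩ : ∃ (Q : Over S) (dT : Q ⟶ T) (dB : (yon S).obj Q ⟶ (yon S).obj (T₀ i)),
      IsPullback dB ((yon S).map dT) (b₀ i) g := ⟨_, _, _, (hbe₀ i).rep.isPullback g⟩
  obtain ⟨cB, rfl⟩ := (yon S).map_surjective dB'
  have hdT : Etale dT.left := (repWith_yon_map_iff _ dT).1 (repWith_of_isPullback sqQ (hbe₀ i))
  obtain ⟨z', hz'⟩ : z ∈ Set.range dT.left := by
    rw [← preimage_ofPt_range sqQ]
    exact hi
  have hgen : GeneralizingMap dT.left := Flat.generalizingMap dT.left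
  obtain ⟨p', hp's, hp'⟩ := hgen (show h.left u ⤳ dT.left z' by rwa [hz'])
  obtain ⟨O, hOa, hz'O, -⟩ := exists_isAffineOpen_mem_and_subset (U := ⊤) (TopologicalSpace.Opens.mem_top z')
  let T' : Over S := Over.mk (O.ι ≫ Q.hom)
  let ιO : T' ⟶ Q := Over.homMk O.ι
  haveI : IsAffine T'.left := hOa
  let zO : ↥T'.left := ⟨z', hz'O⟩
  let pO : ↥T'.left := ⟨p', hp's.mem_open O.2 hz'O⟩
  have hpz : pO ⤳ zO := (subtype_specializes_iff _ _).2 hp's
  let d : T' ⟶ T := ιO ≫ dT
  let c : T' ⟶ T₀ i := ιO ≫ cB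
  have hdc : (yon S).map c ≫ b₀ i = (yon S).map d ≫ g := by
    rw [Functor.map_comp, Functor.map_comp, Category.assoc, Category.assoc, sqQ.w]
  -- the source over the chart
  obtain ⟨X₀, fst₀, f₀, sq₀⟩ : ∃ (X₀ : Sp S) (fst₀ : X₀ ⟶ X) (f₀ : X₀ ⟶ (yon S).obj (T₀ i)),
      IsPullback fst₀ f₀ f (b₀ i) := ⟨_, _, _, IsPullback.of_hasPullback _ _⟩
  have hTs := IsAlgSpace.yon_obj (S := S) (T₀ i)
  have hX₀ : IsAlgSpace X₀ := isAlgSpace_of_isPullback hY.diag hX hTs sq₀
  have := compactSpace_points_of_isQuasiCompactSp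
    (hft.2 hTs (isQuasiCompactSp_yon_iff.2 inferInstance) (b₀ i) fst₀ f₀ sq₀)
  obtain ⟨V, av, hV, hav, havs⟩ := exists_affine_atlas hX₀
  obtain ⟨k, hk⟩ := (yon S).map_surjective (av ≫ f₀)
  have hft₀ : LocP @LocallyOfFiniteType f₀ :=
    Groth.Agent.H12AlgSp.locP_of_isPullback etLocal_lft sq₀ hX hY hTs hft.1
  haveI : LocallyOfFiniteType k.left := hft₀ av (𝟙 _) k hav (repWith_id _ (T₀ i)) (by rw [Category.comp_id, hk])
  -- the base change to the neighbourhood
  obtain ⟨P', fst', snd', sq'⟩ : ∃ (P' : Sp S) (fst' : P' ⟶ P) (snd' : P' ⟶ (yon S).obj T'),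
      IsPullback fst' snd' snd ((yon S).map d) := ⟨_, _, _, IsPullback.of_hasPullback _ _⟩
  obtain ⟨l, hl₁, hl₂⟩ := sq₀.exists_lift (fst' ≫ fst) (snd' ≫ (yon S).map c) (by
    rw [Category.assoc, sq.w, ← Category.assoc, sq'.w, Category.assoc, Category.assoc, hdc])
  have sqc : IsPullback l snd' f₀ ((yon S).map c) := by
    refine IsPullback.of_right ?_ hl₂ sq₀
    rw [hl₁, hdc]
    exact sq'.paste_horiz sq
  obtain ⟨y, hy₁, hy₂⟩ := exists_point_of_isPullback sq' (Points.ofPt a u) (Points.ofScheme T' pO) (by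
    rw [Points.map_ofPt, ← hh, ← Category.comp_id ((yon S).map h), ofPt_map]
    refine Eq.trans ?_ (Points.map_yon_map_apply d pO).symm
    show Points.ofScheme T (h.left u) = Points.ofScheme T (dT.left p')
    rw [hp'])
  obtain ⟨y', hy', hy'z⟩ := mem_image_of_specializes hX₀ hav havs hk.symm (dvrExt_of_isPullback sq₀ hd) c sqc
    (hW.preimage (Points.continuous_map fst')) (show y ∈ Points.map fst' ⁻¹' W by
      show Points.map fst' y ∈ W
      rw [hy₁]; exact hu) hy₂ hpz
  obtain ⟨w, hw⟩ := surjective_ofPt_of_repWith le_rfl has (Points.map fst' y')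
  refine ⟨w, show Points.ofPt a w ∈ W from hw ▸ hy', (Points.schemeHomeo T).injective ?_⟩
  have h1 : Points.map snd (Points.map fst' y') = Points.ofScheme T (dT.left z') := by
    rw [← Points.map_comp, sq'.w, Points.map_comp, hy'z]
    exact Points.map_yon_map_apply d zO
  rw [← hw, Points.map_ofPt, ← hh, ← Category.comp_id ((yon S).map h), ofPt_map, hz'] at h1
  exact h1

end Groth.Agent.H13AlgSp.DvrVC
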