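import Mathlib.RingTheory.DedekindDomain.IntegralClosure
import Mathlib.RingTheory.DedekindDomain.Dvr
import Mathlib.RingTheory.DiscreteValuationRing.Basic
import Mathlib.RingTheory.Valuation.ValuationRing
import Mathlib.RingTheory.Bezout
import Mathlib.RingTheory.UniqueFactorizationDomain.GCDMonoid
import Mathlib.RingTheory.Polynomial.RationalRoot
import Mathlib.RingTheory.Valuation.LocalSubring
import Mathlib.RingTheory.Valuation.Integral

/-!
# Valuation rings of finite separable extensions dominating a discrete valuation ring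
-/

set_option autoImplicit false
set_option linter.style.haveILetI false

universe u

open IsLocalRing

namespace Groth.Agent.H13AlgSp.DvrVC

theorem isDiscreteValuationRing_of_finite {A K A' K' : Type u} [CommRing A] [IsDomain A] [IsDiscreteValuationRing A]
    [Field K] [Algebra A K] [IsFractionRing A K] [CommRing A'] [IsDomain A'] [ValuationRing A'] [Field K']
    [Algebra A' K'] [IsFractionRing A' K'] (φ : A →+* A') [IsLocalHom φ] (ψ : K →+* K')
    (hc : (algebraMap A' K').comp φ = ψ.comp (algebraMap A K))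
    (hfin : letI := ψ.toAlgebra; Module.Finite K K' ∧ Algebra.IsSeparable K K') :
    IsDiscreteValuationRing A' := by
  letI := ψ.toAlgebra
  obtain ⟨_, _⟩ := hfin
  letI : Algebra A K' := (ψ.comp (algebraMap A K)).toAlgebra
  haveI : IsScalarTower A K K' := IsScalarTower.of_algebraMap_eq fun _ => rfl
  letI : Algebra A A' := φ.toAlgebra
  haveI : IsScalarTower A A' K' := IsScalarTower.of_algebraMap_eq fun a => (RingHom.congr_fun hc a).symm
  let C := integralClosure A K'
  haveI : IsDedekindDomain C := IsIntegralClosure.isDedekindDomain A K K' C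
  haveI : IsFractionRing C K' := integralClosure.isFractionRing_of_finite_extension K K'
  have hinj : Function.Injective (algebraMap A' K') := IsFractionRing.injective A' K'
  haveI : IsIntegrallyClosed A' :=
    IsIntegrallyClosed.of_equiv (ValuationRing.equivInteger A' K').symm
  have hmem : ∀ c : C, ∃ x : A', algebraMap A' K' x = (c : K') := fun c =>
    IsIntegrallyClosed.isIntegral_iff.1 (c.2.tower_top (A := A'))
  choose θ₀ hθ₀ using hmem
  let θ : C →+* A' :=
    { toFun := θ₀
      map_one' := hinj (by rw [hθ₀, map_one]; rfl)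
      map_mul' := fun a b => hinj (by rw [map_mul, hθ₀, hθ₀, hθ₀]; rfl)
      map_zero' := hinj (by rw [hθ₀, map_zero]; rfl)
      map_add' := fun a b => hinj (by rw [map_add, hθ₀, hθ₀, hθ₀]; rfl) }
  let P : Ideal C := (maximalIdeal A').comap θ
  haveI : P.IsPrime := Ideal.comap_isPrime _ _
  have hP : P ≠ ⊥ := by
    obtain ⟨ϖ, hϖ⟩ := IsDiscreteValuationRing.exists_irreducible A
    refine (Submodule.ne_bot_iff _).2 ⟨⟨algebraMap A K' ϖ, isIntegral_algebraMap⟩, ?_, fun h => ?_⟩
    · show θ₀ _ ∈ maximalIdeal A'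
      rw [show θ₀ ⟨algebraMap A K' ϖ, isIntegral_algebraMap⟩ = φ ϖ from
        hinj ((hθ₀ _).trans (RingHom.congr_fun hc ϖ).symm)]
      exact map_nonunit φ ϖ (hϖ.not_isUnit)
    · have h' : algebraMap A K' ϖ = 0 := congrArg Subtype.val h
      rw [IsScalarTower.algebraMap_apply A K K', map_eq_zero,
        map_eq_zero_iff _ (IsFractionRing.injective A K)] at h'
      exact hϖ.ne_zero h'
  let Cp := Localization.AtPrime P
  haveI : IsDiscreteValuationRing Cp := IsLocalization.AtPrime.isDiscreteValuationRing_of_dedekind_domain C hP _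
  let θp : Cp →+* A' := IsLocalization.lift (M := P.primeCompl) (g := θ) fun y =>
    by_contra fun h => y.2 (show θ y ∈ maximalIdeal A' from (mem_maximalIdeal _).2 h)
  have hθp : ∀ c : C, θp (algebraMap C Cp c) = θ c := fun c => IsLocalization.lift_eq _ c
  have hloc : ∀ z : Cp, z ∈ maximalIdeal Cp → θp z ∈ maximalIdeal A' := fun z hz => by
    obtain ⟨c, s, rfl⟩ := IsLocalization.exists_mk'_eq P.primeCompl z
    have hc' : c ∈ P := (IsLocalization.AtPrime.mk'_mem_maximal_iff Cp P c s).1 hz
    rw [show θp (IsLocalization.mk' Cp c s) = _ from IsLocalization.lift_mk' _ c s]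
    exact Ideal.mul_mem_right _ _ hc'
  have hθinj : Function.Injective θp := by
    rw [injective_iff_map_eq_zero]
    intro z hz
    obtain ⟨c, s, rfl⟩ := IsLocalization.exists_mk'_eq P.primeCompl z
    rw [IsLocalization.lift_mk'_spec, mul_zero] at hz
    rw [IsLocalization.mk'_eq_zero_iff]
    refine ⟨1, ?_⟩
    rw [Submonoid.coe_one, one_mul]
    exact Subtype.ext ((hθ₀ c).symm.trans (by rw [show θ₀ c = 0 from hz, map_zero]; rfl))
  have hθsurj : Function.Surjective θp := by
    intro x
    obtain ⟨a, b, hb, hab⟩ := IsFractionRing.div_surjective C (algebraMap A' K' x)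
    have hb0 : (b : K') ≠ 0 := fun h => nonZeroDivisors.ne_zero hb (Subtype.ext h)
    have key : θ a = x * θ b := hinj (by
      rw [map_mul, show algebraMap A' K' (θ a) = _ from hθ₀ a, show algebraMap A' K' (θ b) = _ from hθ₀ b, ← hab]
      exact (div_mul_cancel₀ _ hb0).symm)
    rcases ValuationRing.dvd_total (algebraMap C Cp b) (algebraMap C Cp a) with ⟨z, hz⟩ | ⟨z, hz⟩
    · refine ⟨z, ?_⟩
      have h1 : θ a = θ b * θp z := by rw [← hθp, ← hθp, hz, map_mul]
      have hθb : θ b ≠ 0 := fun h => hb0 ((hθ₀ b).symm.trans (by rw [show θ₀ b = 0 from h, map_zero]))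
      exact mul_left_cancel₀ hθb (h1.symm.trans (key.trans (mul_comm _ _)))
    · by_cases hu : IsUnit z
      · obtain ⟨w, rfl⟩ := hu
        refine ⟨↑w⁻¹, ?_⟩
        have h1 : θ b * θp ↑w⁻¹ = θ a := by
          rw [← hθp, ← hθp, ← map_mul, hz, mul_assoc, Units.mul_inv, mul_one]
        have hθb : θ b ≠ 0 := fun h => hb0 ((hθ₀ b).symm.trans (by rw [show θ₀ b = 0 from h, map_zero]))
        exact mul_left_cancel₀ hθb (h1.trans (key.trans (mul_comm _ _)))
      · exfalso
        have h1 : θ b = θ a * θp z := by rw [← hθp, ← hθp, hz, map_mul]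
        have hθb : θ b ≠ 0 := fun h => hb0 ((hθ₀ b).symm.trans (by rw [show θ₀ b = 0 from h, map_zero]))
        have h2 : x * θp z = 1 := by
          refine mul_left_cancel₀ hθb ?_
          rw [mul_one, ← mul_assoc, mul_comm (θ b) x, ← key]
          exact h1.symm
        exact (mem_maximalIdeal _).1 (hloc z ((mem_maximalIdeal _).2 hu))
          (IsUnit.of_mul_eq_one x ((mul_comm _ _).trans h2))
  exact IsDiscreteValuationRing.RingEquivClass.isDiscreteValuationRing (RingEquiv.ofBijective θp ⟨hθinj, hθsurj⟩)

end Groth.Agent.H13AlgSp.DvrVC
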